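import Mathlib
import Cfsg.Agent.Spor.Ly.Tab

/-! Generated by tools/dc: counting elements of order 2 and 3 -/

set_option autoImplicit false
set_option maxRecDepth 100000
set_option linter.unusedVariables false
set_option exponentiation.threshold 100000

namespace Cfsg.Agent.Spor.MLy

open Cfsg.Agent.Spor Cfsg.Agent.Spor.DC Cfsg.Agent.Spor.NM

/-- The trace of a packed matrix. -/
noncomputable def trN (a : ℕ) : ℕ :=
  Nat.mod ((Nat.add (Nat.add (Nat.add (Nat.add (Nat.add (Nat.add (Nat.land a (nat_lit 16383))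
    (getP (nat_lit 14) (nat_lit 16383) a (nat_lit 8))) (getP (nat_lit 14) (nat_lit 16383) a (nat_lit 16))) (getP (nat_lit 14) (nat_lit 16383) a (nat_lit 24))) (getP (nat_lit 14) (nat_lit 16383) a (nat_lit 32))) (getP (nat_lit 14) (nat_lit 16383) a (nat_lit 40))) (getP (nat_lit 14) (nat_lit 16383) a (nat_lit 48)))) (nat_lit 5)

/-- The trace is `τ` and the `k`-th power is trivial. -/
noncomputable def cls (τ k a : ℕ) : Bool := band (Nat.beq (trN a) τ) (Nat.beq (powN F5x7.mul F5x7.one a k) F5x7.one)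

/-- Elements of order 2 in the node 1. -/
noncomputable def cn2_1 : ℕ → ℕ := cntP T (E (nat_lit 1)) (nat_lit 88) (nat_lit 110) (nat_lit 1) (cdI F5x7.mul F5x7.one gc inv) F5x7.mul
  (codeL T (E (nat_lit 6)) (nat_lit 104) (nat_lit 110) (nat_lit 18) (cdI F5x7.mul F5x7.one gc inv) (nat_lit 3906)) (cls (nat_lit 4) (nat_lit 2))

/-- Elements of order 3 in the node 1. -/
noncomputable def cn3_1 : ℕ → ℕ := cntP T (E (nat_lit 1)) (nat_lit 88) (nat_lit 110) (nat_lit 1) (cdI F5x7.mul F5x7.one gc inv) F5x7.mul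
  (codeL T (E (nat_lit 6)) (nat_lit 104) (nat_lit 110) (nat_lit 18) (cdI F5x7.mul F5x7.one gc inv) (nat_lit 3906)) (cls (nat_lit 3) (nat_lit 3))

/-- Elements of order 2 in the node 2. -/
noncomputable def cn2_2 : ℕ → ℕ := cntP T (E (nat_lit 2)) (nat_lit 110) (nat_lit 118) (nat_lit 18) (cdI F5x7.mul F5x7.one gc inv) F5x7.mul
  (codeL T (E (nat_lit 7)) (nat_lit 116) (nat_lit 118) (nat_lit 0) (cdI F5x7.mul F5x7.one gc inv) (nat_lit 3906)) (cls (nat_lit 4) (nat_lit 2))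

/-- Elements of order 3 in the node 2. -/
noncomputable def cn3_2 : ℕ → ℕ := cntP T (E (nat_lit 2)) (nat_lit 110) (nat_lit 118) (nat_lit 18) (cdI F5x7.mul F5x7.one gc inv) F5x7.mul
  (codeL T (E (nat_lit 7)) (nat_lit 116) (nat_lit 118) (nat_lit 0) (cdI F5x7.mul F5x7.one gc inv) (nat_lit 3906)) (cls (nat_lit 3) (nat_lit 3))

/-- Elements of order 2 in the node 3. -/
noncomputable def cn2_3 : ℕ → ℕ := cntP T (E (nat_lit 3)) (nat_lit 118) (nat_lit 128) (nat_lit 18) (cdI F5x7.mul F5x7.one gc inv) F5x7.mul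
  (codeL T (E (nat_lit 8)) (nat_lit 127) (nat_lit 128) (nat_lit 0) (cdI F5x7.mul F5x7.one gc inv) (nat_lit 3906)) (cls (nat_lit 4) (nat_lit 2))

/-- Elements of order 3 in the node 3. -/
noncomputable def cn3_3 : ℕ → ℕ := cntP T (E (nat_lit 3)) (nat_lit 118) (nat_lit 128) (nat_lit 18) (cdI F5x7.mul F5x7.one gc inv) F5x7.mul
  (codeL T (E (nat_lit 8)) (nat_lit 127) (nat_lit 128) (nat_lit 0) (cdI F5x7.mul F5x7.one gc inv) (nat_lit 3906)) (cls (nat_lit 3) (nat_lit 3))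

/-- Elements of order 2 in the node 4. -/
noncomputable def cn2_4 : ℕ → ℕ := cntP T (E (nat_lit 4)) (nat_lit 128) (nat_lit 135) (nat_lit 72) (cdI F5x7.mul F5x7.one gc inv) F5x7.mul
  (codeL T (E (nat_lit 9)) (nat_lit 134) (nat_lit 135) (nat_lit 0) (cdI F5x7.mul F5x7.one gc inv) (nat_lit 3906)) (cls (nat_lit 4) (nat_lit 2))

/-- Elements of order 3 in the node 4. -/
noncomputable def cn3_4 : ℕ → ℕ := cntP T (E (nat_lit 4)) (nat_lit 128) (nat_lit 135) (nat_lit 72) (cdI F5x7.mul F5x7.one gc inv) F5x7.mul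
  (codeL T (E (nat_lit 9)) (nat_lit 134) (nat_lit 135) (nat_lit 0) (cdI F5x7.mul F5x7.one gc inv) (nat_lit 3906)) (cls (nat_lit 3) (nat_lit 3))

end Cfsg.Agent.Spor.MLy
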