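import Mathlib
import Cfsg.Agent.Spor.Ly.Cn0

/-! Generated by tools/dc: counting elements of order 2 and 3 -/

set_option autoImplicit false
set_option maxRecDepth 100000
set_option linter.unusedVariables false
set_option exponentiation.threshold 100000

namespace Cfsg.Agent.Spor.MLy

open Cfsg.Agent.Spor Cfsg.Agent.Spor.DC Cfsg.Agent.Spor.NM

theorem cn2_1_0 : Nat.ble (sumR (nat_lit 0) (nat_lit 250) cn2_1) (nat_lit 101) = true := by decide +kernel

theorem cn2_1_3 : Nat.ble (sumR (nat_lit 750) (nat_lit 250) cn2_1) (nat_lit 59) = true := by decide +kernel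

theorem cn2_1_6 : Nat.ble (sumR (nat_lit 1500) (nat_lit 250) cn2_1) (nat_lit 72) = true := by decide +kernel

theorem cn2_1_9 : Nat.ble (sumR (nat_lit 2250) (nat_lit 250) cn2_1) (nat_lit 85) = true := by decide +kernel

theorem cn2_1_12 : Nat.ble (sumR (nat_lit 3000) (nat_lit 250) cn2_1) (nat_lit 102) = true := by decide +kernel

theorem cn2_1_15 : Nat.ble (sumR (nat_lit 3750) (nat_lit 156) cn2_1) (nat_lit 52) = true := by decide +kernel

theorem cn3_1_0 : Nat.ble (sumR (nat_lit 0) (nat_lit 250) cn3_1) (nat_lit 25) = true := by decide +kernel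

theorem cn3_1_3 : Nat.ble (sumR (nat_lit 750) (nat_lit 250) cn3_1) (nat_lit 8) = true := by decide +kernel

theorem cn3_1_6 : Nat.ble (sumR (nat_lit 1500) (nat_lit 250) cn3_1) (nat_lit 23) = true := by decide +kernel

theorem cn3_1_9 : Nat.ble (sumR (nat_lit 2250) (nat_lit 250) cn3_1) (nat_lit 11) = true := by decide +kernel

theorem cn3_1_12 : Nat.ble (sumR (nat_lit 3000) (nat_lit 250) cn3_1) (nat_lit 10) = true := by decide +kernel

theorem cn3_1_15 : Nat.ble (sumR (nat_lit 3750) (nat_lit 156) cn3_1) (nat_lit 6) = true := by decide +kernel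

theorem cn2_2_0 : Nat.ble (sumR (nat_lit 0) (nat_lit 500) cn2_2) (nat_lit 7) = true := by decide +kernel

theorem cn2_2_3 : Nat.ble (sumR (nat_lit 1500) (nat_lit 500) cn2_2) (nat_lit 10) = true := by decide +kernel

theorem cn2_2_6 : Nat.ble (sumR (nat_lit 3000) (nat_lit 500) cn2_2) (nat_lit 12) = true := by decide +kernel

theorem cn3_2_0 : Nat.ble (sumR (nat_lit 0) (nat_lit 500) cn3_2) (nat_lit 9) = true := by decide +kernel

theorem cn3_2_3 : Nat.ble (sumR (nat_lit 1500) (nat_lit 500) cn3_2) (nat_lit 7) = true := by decide +kernel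

theorem cn3_2_6 : Nat.ble (sumR (nat_lit 3000) (nat_lit 500) cn3_2) (nat_lit 6) = true := by decide +kernel

theorem cn2_3_0 : Nat.ble (sumR (nat_lit 0) (nat_lit 500) cn2_3) (nat_lit 27) = true := by decide +kernel

theorem cn2_3_3 : Nat.ble (sumR (nat_lit 1500) (nat_lit 500) cn2_3) (nat_lit 43) = true := by decide +kernel

theorem cn2_3_6 : Nat.ble (sumR (nat_lit 3000) (nat_lit 500) cn2_3) (nat_lit 26) = true := by decide +kernel

theorem cn3_3_0 : Nat.ble (sumR (nat_lit 0) (nat_lit 500) cn3_3) (nat_lit 1) = true := by decide +kernel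

theorem cn3_3_3 : Nat.ble (sumR (nat_lit 1500) (nat_lit 500) cn3_3) (nat_lit 8) = true := by decide +kernel

theorem cn3_3_6 : Nat.ble (sumR (nat_lit 3000) (nat_lit 500) cn3_3) (nat_lit 1) = true := by decide +kernel

theorem cn2_4_0 : Nat.ble (sumR (nat_lit 0) (nat_lit 500) cn2_4) (nat_lit 13) = true := by decide +kernel

theorem cn2_4_3 : Nat.ble (sumR (nat_lit 1500) (nat_lit 500) cn2_4) (nat_lit 16) = true := by decide +kernel

theorem cn2_4_6 : Nat.ble (sumR (nat_lit 3000) (nat_lit 500) cn2_4) (nat_lit 12) = true := by decide +kernel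

theorem cn3_4_0 : Nat.ble (sumR (nat_lit 0) (nat_lit 500) cn3_4) (nat_lit 0) = true := by decide +kernel

theorem cn3_4_3 : Nat.ble (sumR (nat_lit 1500) (nat_lit 500) cn3_4) (nat_lit 0) = true := by decide +kernel

theorem cn3_4_6 : Nat.ble (sumR (nat_lit 3000) (nat_lit 500) cn3_4) (nat_lit 0) = true := by decide +kernel

end Cfsg.Agent.Spor.MLy
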