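import Mathlib
import Cfsg.Agent.Spor.Ly.Cn0

/-! Generated by tools/dc: counting elements of order 2 and 3 -/

set_option autoImplicit false
set_option maxRecDepth 100000
set_option linter.unusedVariables false
set_option exponentiation.threshold 100000

namespace Cfsg.Agent.Spor.MLy

open Cfsg.Agent.Spor Cfsg.Agent.Spor.DC Cfsg.Agent.Spor.NM

theorem cn2_1_1 : Nat.ble (sumR (nat_lit 250) (nat_lit 250) cn2_1) (nat_lit 89) = true := by decide +kernel

theorem cn2_1_4 : Nat.ble (sumR (nat_lit 1000) (nat_lit 250) cn2_1) (nat_lit 118) = true := by decide +kernel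

theorem cn2_1_7 : Nat.ble (sumR (nat_lit 1750) (nat_lit 250) cn2_1) (nat_lit 97) = true := by decide +kernel

theorem cn2_1_10 : Nat.ble (sumR (nat_lit 2500) (nat_lit 250) cn2_1) (nat_lit 73) = true := by decide +kernel

theorem cn2_1_13 : Nat.ble (sumR (nat_lit 3250) (nat_lit 250) cn2_1) (nat_lit 64) = true := by decide +kernel

theorem cn3_1_1 : Nat.ble (sumR (nat_lit 250) (nat_lit 250) cn3_1) (nat_lit 10) = true := by decide +kernel

theorem cn3_1_4 : Nat.ble (sumR (nat_lit 1000) (nat_lit 250) cn3_1) (nat_lit 10) = true := by decide +kernel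

theorem cn3_1_7 : Nat.ble (sumR (nat_lit 1750) (nat_lit 250) cn3_1) (nat_lit 23) = true := by decide +kernel

theorem cn3_1_10 : Nat.ble (sumR (nat_lit 2500) (nat_lit 250) cn3_1) (nat_lit 12) = true := by decide +kernel

theorem cn3_1_13 : Nat.ble (sumR (nat_lit 3250) (nat_lit 250) cn3_1) (nat_lit 12) = true := by decide +kernel

theorem cn2_2_1 : Nat.ble (sumR (nat_lit 500) (nat_lit 500) cn2_2) (nat_lit 4) = true := by decide +kernel

theorem cn2_2_4 : Nat.ble (sumR (nat_lit 2000) (nat_lit 500) cn2_2) (nat_lit 8) = true := by decide +kernel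

theorem cn2_2_7 : Nat.ble (sumR (nat_lit 3500) (nat_lit 406) cn2_2) (nat_lit 6) = true := by decide +kernel

theorem cn3_2_1 : Nat.ble (sumR (nat_lit 500) (nat_lit 500) cn3_2) (nat_lit 6) = true := by decide +kernel

theorem cn3_2_4 : Nat.ble (sumR (nat_lit 2000) (nat_lit 500) cn3_2) (nat_lit 12) = true := by decide +kernel

theorem cn3_2_7 : Nat.ble (sumR (nat_lit 3500) (nat_lit 406) cn3_2) (nat_lit 5) = true := by decide +kernel

theorem cn2_3_1 : Nat.ble (sumR (nat_lit 500) (nat_lit 500) cn2_3) (nat_lit 19) = true := by decide +kernel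

theorem cn2_3_4 : Nat.ble (sumR (nat_lit 2000) (nat_lit 500) cn2_3) (nat_lit 23) = true := by decide +kernel

theorem cn2_3_7 : Nat.ble (sumR (nat_lit 3500) (nat_lit 406) cn2_3) (nat_lit 23) = true := by decide +kernel

theorem cn3_3_1 : Nat.ble (sumR (nat_lit 500) (nat_lit 500) cn3_3) (nat_lit 2) = true := by decide +kernel

theorem cn3_3_4 : Nat.ble (sumR (nat_lit 2000) (nat_lit 500) cn3_3) (nat_lit 4) = true := by decide +kernel

theorem cn3_3_7 : Nat.ble (sumR (nat_lit 3500) (nat_lit 406) cn3_3) (nat_lit 0) = true := by decide +kernel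

theorem cn2_4_1 : Nat.ble (sumR (nat_lit 500) (nat_lit 500) cn2_4) (nat_lit 14) = true := by decide +kernel

theorem cn2_4_4 : Nat.ble (sumR (nat_lit 2000) (nat_lit 500) cn2_4) (nat_lit 11) = true := by decide +kernel

theorem cn2_4_7 : Nat.ble (sumR (nat_lit 3500) (nat_lit 406) cn2_4) (nat_lit 6) = true := by decide +kernel

theorem cn3_4_1 : Nat.ble (sumR (nat_lit 500) (nat_lit 500) cn3_4) (nat_lit 0) = true := by decide +kernel

theorem cn3_4_4 : Nat.ble (sumR (nat_lit 2000) (nat_lit 500) cn3_4) (nat_lit 0) = true := by decide +kernel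

theorem cn3_4_7 : Nat.ble (sumR (nat_lit 3500) (nat_lit 406) cn3_4) (nat_lit 0) = true := by decide +kernel

end Cfsg.Agent.Spor.MLy
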