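import Mathlib
import Cfsg.Prelude.Def_Spor_Ly
import Cfsg.Agent.Spor.DC.Main
import Cfsg.Agent.Spor.Ly.U0
import Cfsg.Agent.Spor.Ly.U1
import Cfsg.Agent.Spor.Ly.U2

/-! Generated by tools/dc: the presentation of the Lyons group in letters -/

set_option autoImplicit false
set_option maxRecDepth 100000
set_option linter.unusedVariables false
set_option exponentiation.threshold 100000

namespace Cfsg.Agent.Spor.MLy

open Cfsg.Agent.Spor Cfsg.Agent.Spor.DC Cfsg.Spor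

theorem mem_of_defs {G : Type*} [Group G] {g : ℕ → G} {t : LT} (hr : ∀ i, evalW g (t.get i) = 1) {K : Subgroup G}
    {P : List ℕ} (hP : ∀ x ∈ P, g x ∈ K) {D : ℕ → ℕ} {m : ℕ}
    (h : allLt m (fun x => bor (!allL P fun y => !Nat.beq y x)
      (band (beqL (t.get (D x)) (x :: tlL (t.get (D x)))) (lettersLt x (tlL (t.get (D x)))))) = true) :
    ∀ x < m, g x ∈ K := by
  intro x
  induction x using Nat.strong_induction_on with
  | h x ih =>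
    intro hx
    rcases (bor_iff _ _).1 ((allLt_iff _ _).1 h x hx) with h1 | h1
    · by_contra h2
      rw [(allL_iff _ _).2 fun y hy => by
        cases h3 : Nat.beq y x with
        | false => rfl
        | true => exact absurd ((nbeq_iff _ _).1 h3 ▸ hP y hy) h2] at h1
      simp at h1
    · rw [band_iff] at h1
      have h2 := hr (D x)
      rw [eq_of_beqL h1.1, evalW_cons] at h2
      have h3 := (lettersLt_iff _ _).1 h1.2
      rw [eq_inv_of_mul_eq_one_left h2]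
      exact K.inv_mem (evalW_mem fun y hy => ih y (h3 y hy) ((h3 y hy).trans hx))

/-- The generators and their inverses; `z` comes last. -/
def LG : List (Ly.Gen × Bool) :=
  [(.a, true), (.a, false), (.b, true), (.b, false), (.c, true), (.c, false), (.c1, true), (.c1, false), (.c2, true), (.c2, false), (.c3, true), (.c3, false), (.c4, true), (.c4, false), (.c5, true), (.c5, false), (.d, true), (.d, false), (.e, true), (.e, false), (.a1, true), (.a1, false), (.a2, true), (.a2, false), (.a3, true), (.a3, false), (.a4, true), (.a4, false), (.u, true), (.u, false), (.x23, true), (.x23, false), (.x24, true), (.x24, false), (.x25, true), (.x25, false), (.x29, true), (.x29, false), (.x47, true), (.x47, false), (.x96, true), (.x96, false), (.x129, true), (.x129, false), (.x162, true), (.x162, false), (.x163, true), (.x163, false), (.x164, true), (.x164, false),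 (.x165, true), (.x165, false), (.x166, true), (.x166, false), (.x167, true), (.x167, false), (.x168, true), (.x168, false), (.x169, true), (.x169, false), (.x364, true), (.x364, false), (.x365, true), (.x365, false), (.x366, true), (.x366, false), (.x367, true), (.x367, false), (.x368, true), (.x368, false), (.x369, true), (.x369, false), (.x370, true), (.x370, false), (.x371, true), (.x371, false), (.z, true), (.z, false)]

theorem hLG : LettersOK LG Ly.edges := by intro x; cases x <;> decide +kernel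

/-- The letters of the presented group. -/
def gG : ℕ → Ly := presG LG Ly.edges Ly.extra

theorem topG : genLt gG 78 = ⊤ := presG_top hLG

/-- The relators. -/
def RL : List (List ℕ) :=
[[nat_lit 0,nat_lit 0,nat_lit 0,nat_lit 0,nat_lit 0,nat_lit 0,nat_lit 0,nat_lit 0],
[nat_lit 2,nat_lit 2,nat_lit 2,nat_lit 2,nat_lit 2],
[nat_lit 0,nat_lit 2,nat_lit 0,nat_lit 2,nat_lit 0,nat_lit 2,nat_lit 0,nat_lit 2],
[nat_lit 1,nat_lit 1,nat_lit 3,nat_lit 0,nat_lit 0,nat_lit 2],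
[nat_lit 1,nat_lit 3,nat_lit 0,nat_lit 2,nat_lit 1,nat_lit 3,nat_lit 0,nat_lit 2,nat_lit 1,nat_lit 3,nat_lit 0,nat_lit 2],
[nat_lit 6,nat_lit 5],
[nat_lit 8,nat_lit 1,nat_lit 5,nat_lit 0],
[nat_lit 10,nat_lit 3,nat_lit 5,nat_lit 2],
[nat_lit 12,nat_lit 2,nat_lit 5,nat_lit 3],
[nat_lit 14,nat_lit 9,nat_lit 7,nat_lit 8,nat_lit 6],
[nat_lit 6,nat_lit 6,nat_lit 6,nat_lit 6,nat_lit 6],
[nat_lit 14,nat_lit 14,nat_lit 14,nat_lit 14,nat_lit 14],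
[nat_lit 7,nat_lit 15,nat_lit 6,nat_lit 14],
[nat_lit 9,nat_lit 15,nat_lit 8,nat_lit 14],
[nat_lit 11,nat_lit 15,nat_lit 10,nat_lit 14],
[nat_lit 13,nat_lit 15,nat_lit 12,nat_lit 14],
[nat_lit 7,nat_lit 11,nat_lit 6,nat_lit 10,nat_lit 14,nat_lit 14],
[nat_lit 7,nat_lit 13,nat_lit 6,nat_lit 12,nat_lit 15,nat_lit 15],
[nat_lit 9,nat_lit 11,nat_lit 8,nat_lit 10,nat_lit 14],
[nat_lit 9,nat_lit 13,nat_lit 8,nat_lit 12],
[nat_lit 11,nat_lit 13,nat_lit 10,nat_lit 12,nat_lit 14],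
[nat_lit 1,nat_lit 8,nat_lit 0,nat_lit 6,nat_lit 6],
[nat_lit 1,nat_lit 10,nat_lit 0,nat_lit 13,nat_lit 7,nat_lit 10,nat_lit 10],
[nat_lit 1,nat_lit 12,nat_lit 0,nat_lit 13,nat_lit 7,nat_lit 13,nat_lit 10,nat_lit 8,nat_lit 7],
[nat_lit 1,nat_lit 14,nat_lit 0,nat_lit 15,nat_lit 15],
[nat_lit 3,nat_lit 8,nat_lit 2,nat_lit 12,nat_lit 6,nat_lit 12,nat_lit 11,nat_lit 9],
[nat_lit 3,nat_lit 10,nat_lit 2,nat_lit 10,nat_lit 10,nat_lit 13,nat_lit 7,nat_lit 7],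
[nat_lit 3,nat_lit 14,nat_lit 2,nat_lit 15],
[nat_lit 18,nat_lit 17,nat_lit 7,nat_lit 17,nat_lit 2,nat_lit 1,nat_lit 3,nat_lit 7,nat_lit 17,nat_lit 1,nat_lit 7,nat_lit 0,nat_lit 7,nat_lit 1,nat_lit 6,nat_lit 0,nat_lit 2,nat_lit 2],
[nat_lit 18,nat_lit 18],
[nat_lit 19,nat_lit 6,nat_lit 18,nat_lit 6,nat_lit 3,nat_lit 11,nat_lit 3],
[nat_lit 19,nat_lit 10,nat_lit 18,nat_lit 0,nat_lit 12,nat_lit 6,nat_lit 9,nat_lit 1,nat_lit 3,nat_lit 3],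
[nat_lit 19,nat_lit 12,nat_lit 18,nat_lit 13,nat_lit 10,nat_lit 3,nat_lit 3],
[nat_lit 19,nat_lit 14,nat_lit 18,nat_lit 12,nat_lit 7,nat_lit 10,nat_lit 7],
[nat_lit 18,nat_lit 0,nat_lit 0,nat_lit 18,nat_lit 12,nat_lit 15,nat_lit 7,nat_lit 1,nat_lit 2,nat_lit 1,nat_lit 3,nat_lit 3,nat_lit 1],
[nat_lit 19,nat_lit 2,nat_lit 18,nat_lit 12,nat_lit 12,nat_lit 10,nat_lit 7],
[nat_lit 18,nat_lit 0,nat_lit 2,nat_lit 2,nat_lit 0,nat_lit 3,nat_lit 0,nat_lit 18,nat_lit 12,nat_lit 15,nat_lit 7,nat_lit 1,nat_lit 1],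
[nat_lit 18,nat_lit 8,nat_lit 18,nat_lit 9,nat_lit 18,nat_lit 8,nat_lit 13,nat_lit 0,nat_lit 10,nat_lit 0,nat_lit 0,nat_lit 0],
[nat_lit 16,nat_lit 19,nat_lit 3,nat_lit 8,nat_lit 1,nat_lit 19,nat_lit 1,nat_lit 19,nat_lit 1,nat_lit 14,nat_lit 12,nat_lit 6,nat_lit 2,nat_lit 0,nat_lit 3,nat_lit 3,nat_lit 1],
[nat_lit 16,nat_lit 16,nat_lit 1,nat_lit 1,nat_lit 1,nat_lit 1],
[nat_lit 3,nat_lit 17,nat_lit 2,nat_lit 16],
[nat_lit 17,nat_lit 0,nat_lit 16,nat_lit 1,nat_lit 1,nat_lit 1],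
[nat_lit 16,nat_lit 14,nat_lit 16,nat_lit 14,nat_lit 16,nat_lit 14,nat_lit 16,nat_lit 14,nat_lit 16,nat_lit 14],
[nat_lit 16,nat_lit 14,nat_lit 16,nat_lit 15,nat_lit 16,nat_lit 14,nat_lit 1,nat_lit 1],
[nat_lit 20,nat_lit 1],
[nat_lit 22,nat_lit 2,nat_lit 1,nat_lit 3],
[nat_lit 24,nat_lit 2,nat_lit 2,nat_lit 1,nat_lit 3,nat_lit 3],
[nat_lit 26,nat_lit 3,nat_lit 3,nat_lit 1,nat_lit 2,nat_lit 2],
[nat_lit 28,nat_lit 1,nat_lit 1],
[nat_lit 30,nat_lit 17],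
[nat_lit 32,nat_lit 16],
[nat_lit 34,nat_lit 3,nat_lit 5,nat_lit 0,nat_lit 3,nat_lit 3,nat_lit 4,nat_lit 17,nat_lit 4,nat_lit 0,nat_lit 5,nat_lit 1,nat_lit 4,nat_lit 3,nat_lit 3,nat_lit 0,nat_lit 2,nat_lit 0,nat_lit 3,nat_lit 3],
[nat_lit 36,nat_lit 5,nat_lit 3,nat_lit 5,nat_lit 17,nat_lit 2,nat_lit 2,nat_lit 5,nat_lit 17,nat_lit 2,nat_lit 5,nat_lit 3,nat_lit 5,nat_lit 1,nat_lit 4,nat_lit 3,nat_lit 3,nat_lit 0,nat_lit 3,nat_lit 3,nat_lit 0,nat_lit 3,nat_lit 1],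
[nat_lit 38,nat_lit 16,nat_lit 4,nat_lit 3,nat_lit 0,nat_lit 4,nat_lit 0,nat_lit 16,nat_lit 4],
[nat_lit 40,nat_lit 17,nat_lit 3],
[nat_lit 42,nat_lit 2,nat_lit 16],
[nat_lit 44,nat_lit 1,nat_lit 3,nat_lit 4,nat_lit 1,nat_lit 2,nat_lit 4,nat_lit 3,nat_lit 0,nat_lit 2,nat_lit 0],
[nat_lit 46,nat_lit 3,nat_lit 5,nat_lit 3,nat_lit 0,nat_lit 5,nat_lit 1,nat_lit 2,nat_lit 2],
[nat_lit 48,nat_lit 1,nat_lit 3,nat_lit 1,nat_lit 5,nat_lit 0,nat_lit 2,nat_lit 0],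
[nat_lit 50,nat_lit 3,nat_lit 1,nat_lit 2,nat_lit 5,nat_lit 3,nat_lit 0,nat_lit 2],
[nat_lit 52,nat_lit 4,nat_lit 2,nat_lit 2,nat_lit 5,nat_lit 1,nat_lit 3,nat_lit 5,nat_lit 2,nat_lit 0,nat_lit 3,nat_lit 3],
[nat_lit 54,nat_lit 0,nat_lit 0,nat_lit 0],
[nat_lit 56,nat_lit 0,nat_lit 0,nat_lit 2,nat_lit 0,nat_lit 3],
[nat_lit 58,nat_lit 0,nat_lit 2,nat_lit 2,nat_lit 1,nat_lit 3,nat_lit 3,nat_lit 1],
[nat_lit 60,nat_lit 2,nat_lit 1,nat_lit 3,nat_lit 1,nat_lit 2,nat_lit 1,nat_lit 4,nat_lit 0,nat_lit 2,nat_lit 4,nat_lit 3,nat_lit 16,nat_lit 4,nat_lit 3,nat_lit 0,nat_lit 4,nat_lit 2,nat_lit 17,nat_lit 0],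
[nat_lit 62,nat_lit 16,nat_lit 2,nat_lit 5,nat_lit 0,nat_lit 5,nat_lit 1,nat_lit 5,nat_lit 17,nat_lit 4,nat_lit 4,nat_lit 0,nat_lit 3,nat_lit 4,nat_lit 3,nat_lit 5,nat_lit 0,nat_lit 2,nat_lit 2,nat_lit 1],
[nat_lit 64,nat_lit 5,nat_lit 3,nat_lit 5,nat_lit 17,nat_lit 2,nat_lit 2,nat_lit 5,nat_lit 17,nat_lit 3,nat_lit 5,nat_lit 3,nat_lit 3,nat_lit 5,nat_lit 2,nat_lit 0,nat_lit 2,nat_lit 2,nat_lit 0,nat_lit 2,nat_lit 1,nat_lit 3],
[nat_lit 66,nat_lit 2,nat_lit 0,nat_lit 3,nat_lit 1,nat_lit 3,nat_lit 3,nat_lit 1,nat_lit 3,nat_lit 4,nat_lit 2,nat_lit 2,nat_lit 4,nat_lit 2,nat_lit 16,nat_lit 4,nat_lit 3,nat_lit 3,nat_lit 16,nat_lit 4,nat_lit 2,nat_lit 4],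
[nat_lit 68,nat_lit 2,nat_lit 2,nat_lit 0,nat_lit 2,nat_lit 4,nat_lit 2,nat_lit 2,nat_lit 5,nat_lit 1,nat_lit 4,nat_lit 0,nat_lit 16,nat_lit 4,nat_lit 1,nat_lit 2,nat_lit 4,nat_lit 1,nat_lit 16,nat_lit 4,nat_lit 0],
[nat_lit 70,nat_lit 2,nat_lit 1,nat_lit 2,nat_lit 2,nat_lit 1,nat_lit 2,nat_lit 4,nat_lit 2,nat_lit 0,nat_lit 3,nat_lit 16,nat_lit 4,nat_lit 2,nat_lit 0,nat_lit 3,nat_lit 16,nat_lit 4,nat_lit 0],
[nat_lit 72,nat_lit 0,nat_lit 3,nat_lit 0,nat_lit 2,nat_lit 2,nat_lit 0,nat_lit 5,nat_lit 0,nat_lit 2,nat_lit 1,nat_lit 16,nat_lit 4,nat_lit 0,nat_lit 5,nat_lit 3,nat_lit 5,nat_lit 1,nat_lit 16],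
[nat_lit 74,nat_lit 3,nat_lit 0,nat_lit 2,nat_lit 0,nat_lit 2,nat_lit 5,nat_lit 1,nat_lit 5,nat_lit 0,nat_lit 5,nat_lit 16,nat_lit 4,nat_lit 3,nat_lit 5,nat_lit 0,nat_lit 4],
[nat_lit 77,nat_lit 6,nat_lit 76,nat_lit 45],
[nat_lit 77,nat_lit 8,nat_lit 76,nat_lit 47],
[nat_lit 77,nat_lit 10,nat_lit 76,nat_lit 49],
[nat_lit 77,nat_lit 12,nat_lit 76,nat_lit 51],
[nat_lit 77,nat_lit 14,nat_lit 76,nat_lit 53],
[nat_lit 77,nat_lit 20,nat_lit 76,nat_lit 55],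
[nat_lit 77,nat_lit 22,nat_lit 76,nat_lit 57],
[nat_lit 77,nat_lit 24,nat_lit 76,nat_lit 59],
[nat_lit 76,nat_lit 76,nat_lit 29],
[nat_lit 26,nat_lit 76,nat_lit 26,nat_lit 76,nat_lit 26,nat_lit 76,nat_lit 28],
[nat_lit 38,nat_lit 76,nat_lit 60,nat_lit 76,nat_lit 68,nat_lit 76],
[nat_lit 77,nat_lit 32,nat_lit 77,nat_lit 70,nat_lit 76,nat_lit 30,nat_lit 76,nat_lit 36],
[nat_lit 76,nat_lit 64,nat_lit 76,nat_lit 62,nat_lit 77,nat_lit 66,nat_lit 77,nat_lit 72],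
[nat_lit 76,nat_lit 40,nat_lit 76,nat_lit 34,nat_lit 77,nat_lit 42,nat_lit 77,nat_lit 74]]

theorem presW_eq : presW LG Ly.edges Ly.extra = RL := by decide +kernel

/-- The relators without `z`. -/
noncomputable def RH : LT :=
(.node (.node (.node (.node (.node (.node (.node (.node (.leaf [nat_lit 0,nat_lit 0,nat_lit 0,nat_lit 0,nat_lit 0,nat_lit 0,nat_lit 0,nat_lit 0])
 (.leaf [nat_lit 56,nat_lit 57])
) (.leaf [nat_lit 60,nat_lit 2,nat_lit 1,nat_lit 3,nat_lit 1,nat_lit 2,nat_lit 1,nat_lit 4,nat_lit 0,nat_lit 2,nat_lit 4,nat_lit 3,nat_lit 16,nat_lit 4,nat_lit 3,nat_lit 0,nat_lit 4,nat_lit 2,nat_lit 17,nat_lit 0])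
) (.node (.leaf [nat_lit 19,nat_lit 12,nat_lit 18,nat_lit 13,nat_lit 10,nat_lit 3,nat_lit 3])
 (.leaf [nat_lit 24,nat_lit 25])
)) (.node (.node (.node (.leaf [nat_lit 7,nat_lit 11,nat_lit 6,nat_lit 10,nat_lit 14,nat_lit 14])
 (.leaf [nat_lit 72,nat_lit 73])
) (.leaf [nat_lit 8,nat_lit 9])
) (.node (.leaf [nat_lit 28,nat_lit 1,nat_lit 1])
 (.leaf [nat_lit 40,nat_lit 41])
))) (.node (.node (.node (.node (.leaf [nat_lit 12,nat_lit 2,nat_lit 5,nat_lit 3])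
 (.leaf [nat_lit 64,nat_lit 65])
) (.leaf [nat_lit 0,nat_lit 1])
) (.node (.leaf [nat_lit 3,nat_lit 17,nat_lit 2,nat_lit 16])
 (.leaf [nat_lit 32,nat_lit 33])
)) (.node (.node (.leaf [nat_lit 1,nat_lit 14,nat_lit 0,nat_lit 15,nat_lit 15])
 (.leaf [nat_lit 16,nat_lit 17])
) (.node (.leaf [nat_lit 44,nat_lit 1,nat_lit 3,nat_lit 4,nat_lit 1,nat_lit 2,nat_lit 4,nat_lit 3,nat_lit 0,nat_lit 2,nat_lit 0])
 (.leaf [nat_lit 48,nat_lit 49])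
)))) (.node (.node (.node (.node (.node (.leaf [nat_lit 1,nat_lit 3,nat_lit 0,nat_lit 2,nat_lit 1,nat_lit 3,nat_lit 0,nat_lit 2,nat_lit 1,nat_lit 3,nat_lit 0,nat_lit 2])
 (.leaf [nat_lit 60,nat_lit 61])
) (.leaf [nat_lit 68,nat_lit 2,nat_lit 2,nat_lit 0,nat_lit 2,nat_lit 4,nat_lit 2,nat_lit 2,nat_lit 5,nat_lit 1,nat_lit 4,nat_lit 0,nat_lit 16,nat_lit 4,nat_lit 1,nat_lit 2,nat_lit 4,nat_lit 1,nat_lit 16,nat_lit 4,nat_lit 0])
) (.node (.leaf [nat_lit 18,nat_lit 0,nat_lit 2,nat_lit 2,nat_lit 0,nat_lit 3,nat_lit 0,nat_lit 18,nat_lit 12,nat_lit 15,nat_lit 7,nat_lit 1,nat_lit 1])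
 (.leaf [nat_lit 28,nat_lit 29])
)) (.node (.node (.leaf [nat_lit 11,nat_lit 13,nat_lit 10,nat_lit 12,nat_lit 14])
 (.leaf [nat_lit 12,nat_lit 13])
) (.node (.leaf [nat_lit 36,nat_lit 5,nat_lit 3,nat_lit 5,nat_lit 17,nat_lit 2,nat_lit 2,nat_lit 5,nat_lit 17,nat_lit 2,nat_lit 5,nat_lit 3,nat_lit 5,nat_lit 1,nat_lit 4,nat_lit 3,nat_lit 3,nat_lit 0,nat_lit 3,nat_lit 3,nat_lit 0,nat_lit 3,nat_lit 1])
 (.leaf [nat_lit 44,nat_lit 45])
))) (.node (.node (.node (.node (.leaf [nat_lit 7,nat_lit 15,nat_lit 6,nat_lit 14])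
 (.leaf [nat_lit 68,nat_lit 69])
) (.leaf [nat_lit 4,nat_lit 5])
) (.node (.leaf [nat_lit 20,nat_lit 1])
 (.leaf [nat_lit 36,nat_lit 37])
)) (.node (.node (.leaf [nat_lit 18,nat_lit 17,nat_lit 7,nat_lit 17,nat_lit 2,nat_lit 1,nat_lit 3,nat_lit 7,nat_lit 17,nat_lit 1,nat_lit 7,nat_lit 0,nat_lit 7,nat_lit 1,nat_lit 6,nat_lit 0,nat_lit 2,nat_lit 2])
 (.leaf [nat_lit 20,nat_lit 21])
) (.node (.leaf [nat_lit 52,nat_lit 4,nat_lit 2,nat_lit 2,nat_lit 5,nat_lit 1,nat_lit 3,nat_lit 5,nat_lit 2,nat_lit 0,nat_lit 3,nat_lit 3])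
 (.leaf [nat_lit 52,nat_lit 53])
))))) (.node (.node (.node (.node (.node (.node (.leaf [nat_lit 0,nat_lit 2,nat_lit 0,nat_lit 2,nat_lit 0,nat_lit 2,nat_lit 0,nat_lit 2])
 (.leaf [nat_lit 58,nat_lit 59])
) (.leaf [nat_lit 64,nat_lit 5,nat_lit 3,nat_lit 5,nat_lit 17,nat_lit 2,nat_lit 2,nat_lit 5,nat_lit 17,nat_lit 3,nat_lit 5,nat_lit 3,nat_lit 3,nat_lit 5,nat_lit 2,nat_lit 0,nat_lit 2,nat_lit 2,nat_lit 0,nat_lit 2,nat_lit 1,nat_lit 3])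
) (.node (.leaf [nat_lit 18,nat_lit 0,nat_lit 0,nat_lit 18,nat_lit 12,nat_lit 15,nat_lit 7,nat_lit 1,nat_lit 2,nat_lit 1,nat_lit 3,nat_lit 3,nat_lit 1])
 (.leaf [nat_lit 26,nat_lit 27])
)) (.node (.node (.node (.leaf [nat_lit 9,nat_lit 11,nat_lit 8,nat_lit 10,nat_lit 14])
 (.leaf [nat_lit 74,nat_lit 75])
) (.leaf [nat_lit 10,nat_lit 11])
) (.node (.leaf [nat_lit 32,nat_lit 16])
 (.leaf [nat_lit 42,nat_lit 43])
))) (.node (.node (.node (.node (.leaf [nat_lit 6,nat_lit 6,nat_lit 6,nat_lit 6,nat_lit 6])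
 (.leaf [nat_lit 66,nat_lit 67])
) (.leaf [nat_lit 2,nat_lit 3])
) (.node (.leaf [nat_lit 16,nat_lit 14,nat_lit 16,nat_lit 14,nat_lit 16,nat_lit 14,nat_lit 16,nat_lit 14,nat_lit 16,nat_lit 14])
 (.leaf [nat_lit 34,nat_lit 35])
)) (.node (.node (.leaf [nat_lit 3,nat_lit 10,nat_lit 2,nat_lit 10,nat_lit 10,nat_lit 13,nat_lit 7,nat_lit 7])
 (.leaf [nat_lit 18,nat_lit 19])
) (.node (.leaf [nat_lit 48,nat_lit 1,nat_lit 3,nat_lit 1,nat_lit 5,nat_lit 0,nat_lit 2,nat_lit 0])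
 (.leaf [nat_lit 50,nat_lit 51])
)))) (.node (.node (.node (.node (.node (.leaf [nat_lit 8,nat_lit 1,nat_lit 5,nat_lit 0])
 (.leaf [nat_lit 62,nat_lit 63])
) (.leaf [nat_lit 72,nat_lit 0,nat_lit 3,nat_lit 0,nat_lit 2,nat_lit 2,nat_lit 0,nat_lit 5,nat_lit 0,nat_lit 2,nat_lit 1,nat_lit 16,nat_lit 4,nat_lit 0,nat_lit 5,nat_lit 3,nat_lit 5,nat_lit 1,nat_lit 16])
) (.node (.leaf [nat_lit 16,nat_lit 19,nat_lit 3,nat_lit 8,nat_lit 1,nat_lit 19,nat_lit 1,nat_lit 19,nat_lit 1,nat_lit 14,nat_lit 12,nat_lit 6,nat_lit 2,nat_lit 0,nat_lit 3,nat_lit 3,nat_lit 1])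
 (.leaf [nat_lit 30,nat_lit 31])
)) (.node (.node (.leaf [nat_lit 1,nat_lit 10,nat_lit 0,nat_lit 13,nat_lit 7,nat_lit 10,nat_lit 10])
 (.leaf [nat_lit 14,nat_lit 15])
) (.node (.leaf [nat_lit 40,nat_lit 17,nat_lit 3])
 (.leaf [nat_lit 46,nat_lit 47])
))) (.node (.node (.node (.node (.leaf [nat_lit 11,nat_lit 15,nat_lit 10,nat_lit 14])
 (.leaf [nat_lit 70,nat_lit 71])
) (.leaf [nat_lit 6,nat_lit 7])
) (.node (.leaf [nat_lit 24,nat_lit 2,nat_lit 2,nat_lit 1,nat_lit 3,nat_lit 3])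
 (.leaf [nat_lit 38,nat_lit 39])
)) (.node (.node (.leaf [nat_lit 19,nat_lit 6,nat_lit 18,nat_lit 6,nat_lit 3,nat_lit 11,nat_lit 3])
 (.leaf [nat_lit 22,nat_lit 23])
) (.node (.leaf [nat_lit 56,nat_lit 0,nat_lit 0,nat_lit 2,nat_lit 0,nat_lit 3])
 (.leaf [nat_lit 54,nat_lit 55])
)))))) (.node (.node (.node (.node (.node (.node (.node (.leaf [nat_lit 2,nat_lit 2,nat_lit 2,nat_lit 2,nat_lit 2])
 (.leaf [nat_lit 57,nat_lit 56])
) (.leaf [nat_lit 62,nat_lit 16,nat_lit 2,nat_lit 5,nat_lit 0,nat_lit 5,nat_lit 1,nat_lit 5,nat_lit 17,nat_lit 4,nat_lit 4,nat_lit 0,nat_lit 3,nat_lit 4,nat_lit 3,nat_lit 5,nat_lit 0,nat_lit 2,nat_lit 2,nat_lit 1])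
) (.node (.leaf [nat_lit 19,nat_lit 14,nat_lit 18,nat_lit 12,nat_lit 7,nat_lit 10,nat_lit 7])
 (.leaf [nat_lit 25,nat_lit 24])
)) (.node (.node (.node (.leaf [nat_lit 7,nat_lit 13,nat_lit 6,nat_lit 12,nat_lit 15,nat_lit 15])
 (.leaf [nat_lit 73,nat_lit 72])
) (.leaf [nat_lit 9,nat_lit 8])
) (.node (.leaf [nat_lit 30,nat_lit 17])
 (.leaf [nat_lit 41,nat_lit 40])
))) (.node (.node (.node (.node (.leaf [nat_lit 14,nat_lit 9,nat_lit 7,nat_lit 8,nat_lit 6])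
 (.leaf [nat_lit 65,nat_lit 64])
) (.leaf [nat_lit 1,nat_lit 0])
) (.node (.leaf [nat_lit 17,nat_lit 0,nat_lit 16,nat_lit 1,nat_lit 1,nat_lit 1])
 (.leaf [nat_lit 33,nat_lit 32])
)) (.node (.node (.leaf [nat_lit 3,nat_lit 8,nat_lit 2,nat_lit 12,nat_lit 6,nat_lit 12,nat_lit 11,nat_lit 9])
 (.leaf [nat_lit 17,nat_lit 16])
) (.node (.leaf [nat_lit 46,nat_lit 3,nat_lit 5,nat_lit 3,nat_lit 0,nat_lit 5,nat_lit 1,nat_lit 2,nat_lit 2])
 (.leaf [nat_lit 49,nat_lit 48])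
)))) (.node (.node (.node (.node (.node (.leaf [nat_lit 6,nat_lit 5])
 (.leaf [nat_lit 61,nat_lit 60])
) (.leaf [nat_lit 70,nat_lit 2,nat_lit 1,nat_lit 2,nat_lit 2,nat_lit 1,nat_lit 2,nat_lit 4,nat_lit 2,nat_lit 0,nat_lit 3,nat_lit 16,nat_lit 4,nat_lit 2,nat_lit 0,nat_lit 3,nat_lit 16,nat_lit 4,nat_lit 0])
) (.node (.leaf [nat_lit 18,nat_lit 8,nat_lit 18,nat_lit 9,nat_lit 18,nat_lit 8,nat_lit 13,nat_lit 0,nat_lit 10,nat_lit 0,nat_lit 0,nat_lit 0])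
 (.leaf [nat_lit 29,nat_lit 28])
)) (.node (.node (.leaf [nat_lit 1,nat_lit 8,nat_lit 0,nat_lit 6,nat_lit 6])
 (.leaf [nat_lit 13,nat_lit 12])
) (.node (.leaf [nat_lit 38,nat_lit 16,nat_lit 4,nat_lit 3,nat_lit 0,nat_lit 4,nat_lit 0,nat_lit 16,nat_lit 4])
 (.leaf [nat_lit 45,nat_lit 44])
))) (.node (.node (.node (.node (.leaf [nat_lit 9,nat_lit 15,nat_lit 8,nat_lit 14])
 (.leaf [nat_lit 69,nat_lit 68])
) (.leaf [nat_lit 5,nat_lit 4])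
) (.node (.leaf [nat_lit 22,nat_lit 2,nat_lit 1,nat_lit 3])
 (.leaf [nat_lit 37,nat_lit 36])
)) (.node (.node (.leaf [nat_lit 18,nat_lit 18])
 (.leaf [nat_lit 21,nat_lit 20])
) (.node (.leaf [nat_lit 54,nat_lit 0,nat_lit 0,nat_lit 0])
 (.leaf [nat_lit 53,nat_lit 52])
))))) (.node (.node (.node (.node (.node (.node (.leaf [nat_lit 1,nat_lit 1,nat_lit 3,nat_lit 0,nat_lit 0,nat_lit 2])
 (.leaf [nat_lit 59,nat_lit 58])
) (.leaf [nat_lit 66,nat_lit 2,nat_lit 0,nat_lit 3,nat_lit 1,nat_lit 3,nat_lit 3,nat_lit 1,nat_lit 3,nat_lit 4,nat_lit 2,nat_lit 2,nat_lit 4,nat_lit 2,nat_lit 16,nat_lit 4,nat_lit 3,nat_lit 3,nat_lit 16,nat_lit 4,nat_lit 2,nat_lit 4])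
) (.node (.leaf [nat_lit 19,nat_lit 2,nat_lit 18,nat_lit 12,nat_lit 12,nat_lit 10,nat_lit 7])
 (.leaf [nat_lit 27,nat_lit 26])
)) (.node (.node (.node (.leaf [nat_lit 9,nat_lit 13,nat_lit 8,nat_lit 12])
 (.leaf [nat_lit 75,nat_lit 74])
) (.leaf [nat_lit 11,nat_lit 10])
) (.node (.leaf [nat_lit 34,nat_lit 3,nat_lit 5,nat_lit 0,nat_lit 3,nat_lit 3,nat_lit 4,nat_lit 17,nat_lit 4,nat_lit 0,nat_lit 5,nat_lit 1,nat_lit 4,nat_lit 3,nat_lit 3,nat_lit 0,nat_lit 2,nat_lit 0,nat_lit 3,nat_lit 3])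
 (.leaf [nat_lit 43,nat_lit 42])
))) (.node (.node (.node (.node (.leaf [nat_lit 14,nat_lit 14,nat_lit 14,nat_lit 14,nat_lit 14])
 (.leaf [nat_lit 67,nat_lit 66])
) (.leaf [nat_lit 3,nat_lit 2])
) (.node (.leaf [nat_lit 16,nat_lit 14,nat_lit 16,nat_lit 15,nat_lit 16,nat_lit 14,nat_lit 1,nat_lit 1])
 (.leaf [nat_lit 35,nat_lit 34])
)) (.node (.node (.leaf [nat_lit 3,nat_lit 14,nat_lit 2,nat_lit 15])
 (.leaf [nat_lit 19,nat_lit 18])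
) (.node (.leaf [nat_lit 50,nat_lit 3,nat_lit 1,nat_lit 2,nat_lit 5,nat_lit 3,nat_lit 0,nat_lit 2])
 (.leaf [nat_lit 51,nat_lit 50])
)))) (.node (.node (.node (.node (.node (.leaf [nat_lit 10,nat_lit 3,nat_lit 5,nat_lit 2])
 (.leaf [nat_lit 63,nat_lit 62])
) (.leaf [nat_lit 74,nat_lit 3,nat_lit 0,nat_lit 2,nat_lit 0,nat_lit 2,nat_lit 5,nat_lit 1,nat_lit 5,nat_lit 0,nat_lit 5,nat_lit 16,nat_lit 4,nat_lit 3,nat_lit 5,nat_lit 0,nat_lit 4])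
) (.node (.leaf [nat_lit 16,nat_lit 16,nat_lit 1,nat_lit 1,nat_lit 1,nat_lit 1])
 (.leaf [nat_lit 31,nat_lit 30])
)) (.node (.node (.leaf [nat_lit 1,nat_lit 12,nat_lit 0,nat_lit 13,nat_lit 7,nat_lit 13,nat_lit 10,nat_lit 8,nat_lit 7])
 (.leaf [nat_lit 15,nat_lit 14])
) (.node (.leaf [nat_lit 42,nat_lit 2,nat_lit 16])
 (.leaf [nat_lit 47,nat_lit 46])
))) (.node (.node (.node (.node (.leaf [nat_lit 13,nat_lit 15,nat_lit 12,nat_lit 14])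
 (.leaf [nat_lit 71,nat_lit 70])
) (.leaf [nat_lit 7,nat_lit 6])
) (.node (.leaf [nat_lit 26,nat_lit 3,nat_lit 3,nat_lit 1,nat_lit 2,nat_lit 2])
 (.leaf [nat_lit 39,nat_lit 38])
)) (.node (.node (.leaf [nat_lit 19,nat_lit 10,nat_lit 18,nat_lit 0,nat_lit 12,nat_lit 6,nat_lit 9,nat_lit 1,nat_lit 3,nat_lit 3])
 (.leaf [nat_lit 23,nat_lit 22])
) (.node (.leaf [nat_lit 58,nat_lit 0,nat_lit 2,nat_lit 2,nat_lit 1,nat_lit 3,nat_lit 3,nat_lit 1])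
 (.leaf [nat_lit 55,nat_lit 54])
)))))))
/-- The relators with `z`. -/
noncomputable def RZ : LT :=
(.node (.node (.node (.node (.leaf [nat_lit 77,nat_lit 6,nat_lit 76,nat_lit 45])
 (.leaf [nat_lit 76,nat_lit 76,nat_lit 29])
) (.node (.leaf [nat_lit 77,nat_lit 14,nat_lit 76,nat_lit 53])
 (.leaf [nat_lit 76,nat_lit 64,nat_lit 76,nat_lit 62,nat_lit 77,nat_lit 66,nat_lit 77,nat_lit 72])
)) (.node (.node (.leaf [nat_lit 77,nat_lit 10,nat_lit 76,nat_lit 49])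
 (.leaf [nat_lit 38,nat_lit 76,nat_lit 60,nat_lit 76,nat_lit 68,nat_lit 76])
) (.node (.leaf [nat_lit 77,nat_lit 22,nat_lit 76,nat_lit 57])
 (.leaf [nat_lit 76,nat_lit 77])
))) (.node (.node (.node (.leaf [nat_lit 77,nat_lit 8,nat_lit 76,nat_lit 47])
 (.leaf [nat_lit 26,nat_lit 76,nat_lit 26,nat_lit 76,nat_lit 26,nat_lit 76,nat_lit 28])
) (.node (.leaf [nat_lit 77,nat_lit 20,nat_lit 76,nat_lit 55])
 (.leaf [nat_lit 76,nat_lit 40,nat_lit 76,nat_lit 34,nat_lit 77,nat_lit 42,nat_lit 77,nat_lit 74])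
)) (.node (.node (.leaf [nat_lit 77,nat_lit 12,nat_lit 76,nat_lit 51])
 (.leaf [nat_lit 77,nat_lit 32,nat_lit 77,nat_lit 70,nat_lit 76,nat_lit 30,nat_lit 76,nat_lit 36])
) (.node (.leaf [nat_lit 77,nat_lit 24,nat_lit 76,nat_lit 59])
 (.leaf [nat_lit 77,nat_lit 76])
))))
/-- Inverse letters. -/
def inv0 (x : ℕ) : ℕ := Nat.xor x 1

theorem hinvG : ∀ x < 78, gG x * gG (inv0 x) = 1 := presG_hinv (by decide +kernel)

theorem relG : ∀ w ∈ RL, evalW gG w = 1 := presW_eq ▸ presW_one hLG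

theorem relGH : ∀ i, evalW gG (RH.get i) = 1 := hrels_of_relTest hinvG relG (by decide +kernel)

theorem relGZ : ∀ i, evalW gG (RZ.get i) = 1 := hrels_of_relTest hinvG relG (by decide +kernel)

theorem exists_hom {Q : Type*} [Group Q] {p : ℕ → Q} (h1 : ∀ i, evalW p (RH.get i) = 1)
    (h2 : ∀ i, evalW p (RZ.get i) = 1) : ∃ φ : Ly →* Q, ∀ x < 78, φ (gG x) = p x :=
  exists_presHom hLG (t := .node RH RZ) (LT.forall_node (P := fun w => evalW p w = 1) h1 h2) (by decide +kernel)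
    (by rw [presW_eq]; decide +kernel) (by decide +kernel)

/-- The group presented by the relators without `z`. -/
abbrev HH : Type := WQ RH 76

/-- The letters of `HH`. -/
noncomputable def g0 : ℕ → HH := wqG RH 76

theorem top0 : genLt g0 76 = ⊤ := wq_top _ _

theorem rel0 : ∀ i, evalW g0 (RH.get i) = 1 := wq_rels _ _

theorem RH_lt : RH.all (lettersLt 76) = true := by decide +kernel

theorem mem_abcd {Q : Type*} [Group Q] {p : ℕ → Q} (h1 : ∀ i, evalW p (RH.get i) = 1) {K : Subgroup Q}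
    (ha : p 0 ∈ K) (hb : p 2 ∈ K) (hc : p 4 ∈ K) (hd : p 16 ∈ K) : ∀ x < 76, p x ∈ K :=
  mem_of_defs h1 (P := [0, 2, 4, 16]) (by simp [ha, hb, hc, hd]) (D := (getP (nat_lit 8) (nat_lit 255) (nat_lit 0x934791468f458d448b43894287418540833f813e7f3d7d3c7b3b793a77397538733771366f356d346b33693267316530632f612e5f2d5d2c1e1c290057095508530751064f054d004b004900))) (by decide +kernel)

theorem ubH : Nat.card HH ≠ 0 ∧ Nat.card HH ≤ 3906 * (3125 * (96 * 5)) := by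
  have h1 : genLt g0 20 = ⊤ := by
    rw [eq_top_iff, ← top0]
    exact genLt_le (mem_abcd rel0 (mem_genLt _ (by decide)) (mem_genLt _ (by decide)) (mem_genLt _ (by decide))
      (mem_genLt _ (by decide)))
  have h2 : g0 2 ^ 5 = 1 := by
    simpa [pow_succ, mul_assoc] using (show evalW g0 [2, 2, 2, 2, 2] = 1 from rel0 1)
  rw [← Subgroup.card_top, ← h1]
  refine card_le_of_relIndex (genLt_mono g0 (by decide)) (uc_bound (hinv_of_tree rel0 (by decide +kernel))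
    (rels_of_subtree rel0 (by decide +kernel)) (fun _ => mem_genLt g0) (leaf_nil_mem _ _))
    (card_le_of_relIndex (genLt_mono g0 (by decide)) (ub_bound (hinv_of_tree rel0 (by decide +kernel))
    (rels_of_subtree rel0 (by decide +kernel)) (fun _ => mem_genLt g0) (leaf_nil_mem _ _))
    (card_le_of_relIndex (H := Subgroup.zpowers (g0 2)) (Subgroup.zpowers_le.2 (mem_genLt g0 (by decide)))
    (ua_bound (hinv_of_tree rel0 (by decide +kernel)) (rels_of_subtree rel0 (by decide +kernel)) (by simp)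
      (LT.forall_node (P := fun w => evalW g0 w ∈ Subgroup.zpowers (g0 2)) (l := .leaf []) (r := .leaf [2])
        (fun _ => Subgroup.one_mem _) fun _ => by
          show g0 2 * 1 ∈ _
          rw [mul_one]
          exact Subgroup.mem_zpowers _)) ?_))
  rw [Nat.card_zpowers]
  exact ⟨(isOfFinOrder_iff_pow_eq_one.2 ⟨5, by decide, h2⟩).orderOf_pos.ne', orderOf_le_of_pow_eq_one (by decide) h2⟩

instance finH : Finite HH := Nat.finite_of_card_ne_zero ubH.1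

theorem exPsi : ∃ ψ : HH →* Ly, ∀ x < 76, ψ (g0 x) = gG x := wq_hom RH_lt relGH

/-- The homomorphism onto the subgroup generated by `a, b, c, d`. -/
noncomputable def psi : HH →* Ly := exPsi.choose

theorem psi_g0 : ∀ x < 76, psi (g0 x) = gG x := exPsi.choose_spec

theorem range_eq : psi.range = genLt gG 76 := by
  rw [MonoidHom.range_eq_map, ← top0]
  exact map_genLt _ psi_g0

theorem htop : psi.range ⊔ Subgroup.zpowers (gG 77) = ⊤ := by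
  rw [eq_top_iff, ← topG, range_eq]
  refine genLt_le fun x hx => ?_
  by_cases h : x < 76
  · exact Subgroup.mem_sup_left (mem_genLt _ h)
  · interval_cases x
    exacts [Subgroup.mem_sup_right (eq_inv_of_mul_eq_one_left (hinvG 76 (by decide)) ▸
      Subgroup.inv_mem _ (Subgroup.mem_zpowers _)), Subgroup.mem_sup_right (Subgroup.mem_zpowers _)]

/-- The subgroup generated by `a, b, c, d`, as written in the statements. -/
theorem abcd_eq : (Subgroup.closure ({Ly.a, Ly.b, Ly.c, Ly.d} : Set (FreeGroup Ly.Gen))).map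
    (PresentedGroup.mk (coxRelators Ly.edges ∪ {r | r ∈ Ly.extra})) = psi.range := by
  rw [range_eq, MonoidHom.map_closure]
  refine le_antisymm ((Subgroup.closure_le _).2 ?_) (genLt_le (mem_abcd relGH
    (Subgroup.subset_closure ⟨Ly.a, by simp, rfl⟩) (Subgroup.subset_closure ⟨Ly.b, by simp, rfl⟩)
    (Subgroup.subset_closure ⟨Ly.c, by simp, rfl⟩) (Subgroup.subset_closure ⟨Ly.d, by simp, rfl⟩)))
  rintro _ ⟨_, rfl | rfl | rfl | rfl, rfl⟩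
  exacts [mem_genLt gG (show 0 < 76 by decide), mem_genLt gG (show 2 < 76 by decide),
    mem_genLt gG (show 4 < 76 by decide), mem_genLt gG (show 16 < 76 by decide)]

end Cfsg.Agent.Spor.MLy
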